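import Groth.Agent.L15.TFCurve.BC.PullFlat

/-!
# The unit on stalks of a composite pullback
-/

set_option autoImplicit false
set_option linter.style.haveILetI false
set_option backward.isDefEq.respectTransparency false
set_option backward.isDefEq.respectTransparency.types false

universe u

open CategoryTheory CategoryTheory.Limits AlgebraicGeometry TopologicalSpace TensorProduct

noncomputable section

namespace Groth.L15.TFCurve.BC

open Groth.L15.TFCurve

variable {X Y : Scheme.{u}}

theorem pu_germ (g : X ⟶ Y) (x : X) (N : Y.Modules) {V : Y.Opens} (hx : g x ∈ V) (n : Γ(N, V)) :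
    pu g x N (N.presheaf.germ V (g x) hx n) = ((Scheme.Modules.pullback g).obj N).presheaf.germ (g ⁻¹ᵁ V) x hx
      (((Scheme.Modules.pullbackPushforwardAdjunction g).unit.app N).app V n) := by
  letI := alg g x
  apply (pe g x N).injective
  rw [pu, LinearEquiv.apply_symm_apply]
  exact (Groth.L17.ClosedPush.stalkIso_unit_germ g N x hx n).symm

theorem pu_eq_uStalk (i : X ⟶ Y) [IsClosedImmersion i] (x : X) (N : Y.Modules) (n : N.presheaf.stalk (i x)) :
    pu i x N n = uStalk i N x n := by
  obtain ⟨V, hV, m, rfl⟩ := TopCat.Presheaf.exists_germ_eq N.presheaf n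
  rw [pu_germ, uStalk_germ]

variable {W : Scheme.{u}} (a : W ⟶ X) (g : X ⟶ Y)

theorem pu_comp (x : W) (N : Y.Modules) (n : N.presheaf.stalk (g (a x))) :
    st ((Scheme.Modules.pullbackComp a g).inv.app N) x (pu (a ≫ g) x N n) =
      pu a x ((Scheme.Modules.pullback g).obj N) (pu g (a x) N n) := by
  obtain ⟨V, hV, m, rfl⟩ := TopCat.Presheaf.exists_germ_eq N.presheaf n
  rw [pu_germ g (a x) N hV m]
  refine Eq.trans ?_ (pu_germ a x _ (V := g ⁻¹ᵁ V) hV _).symm
  refine (congrArg (st _ x) (pu_germ (a ≫ g) x N (V := V) hV m)).trans ?_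
  rw [st_apply, Groth.L21.Mod.stalkF_map_germ]
  refine congrArg _ ?_
  have h := unit_conjugateEquiv ((Scheme.Modules.pullbackPushforwardAdjunction g).comp
    (Scheme.Modules.pullbackPushforwardAdjunction a)) (Scheme.Modules.pullbackPushforwardAdjunction (a ≫ g))
    (Scheme.Modules.pullbackComp a g).inv N
  rw [Scheme.Modules.conjugateEquiv_pullbackComp_inv] at h
  have h2 := congrArg (fun k => Scheme.Modules.Hom.app k V m) h
  exact h2.symm

end Groth.L15.TFCurve.BC
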