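import Groth.Agent.L15.TFCurve.LimitDec
import Groth.Agent.L15.TFCurve.BC.CompStalk
import Groth.Agent.L01.CompletionReg
import Groth.Agent.L16.AffineBC.Pullback
import Mathlib.RingTheory.AdicCompletion.LocalRing
import Mathlib.RingTheory.AdicCompletion.AsTensorProduct
import Mathlib.AlgebraicGeometry.Morphisms.Flat

/-!
# A tower of split modifications gives a flat quotient over the completion of the base
-/

set_option autoImplicit false
set_option linter.style.haveILetI false
set_option backward.isDefEq.respectTransparency false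
set_option backward.isDefEq.respectTransparency.types false

universe u

open CategoryTheory CategoryTheory.Limits AlgebraicGeometry TopologicalSpace

noncomputable section

namespace Groth.L15.TFCurve.BC

open Groth.L15.TFCurve

variable (R : Type u) [CommRing R] [IsDomain R] [IsDiscreteValuationRing R]

/-- The completion of the base. -/
abbrev Rh : Type u := AdicCompletion (IsLocalRing.maximalIdeal R) R

theorem exists_dvr_completion : ∃ _ : IsDomain (Rh R), IsDiscreteValuationRing (Rh R) := by
  haveI := Groth.L01.AnalUnram.isNoetherianRing_completion R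
  rw [Groth.L01.CompletionReg.dvr_iff_regular_dim_one, ← Groth.L01.CompletionReg.isRegularLocalRing_iff_completion,
    Groth.L01.CompletionReg.ringKrullDim_completion, ← Groth.L01.CompletionReg.dvr_iff_regular_dim_one]
  exact ⟨inferInstance, inferInstance⟩

instance isDomain_completion : IsDomain (Rh R) := (exists_dvr_completion R).choose

instance dvr_completion : IsDiscreteValuationRing (Rh R) := (exists_dvr_completion R).choose_spec

theorem injective_completion : Function.Injective (algebraMap R (Rh R)) := by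
  haveI : Module.FaithfullyFlat R (Rh R) := Module.FaithfullyFlat.of_flat_of_isLocalHom
  exact FaithfulSMul.algebraMap_injective _ _

/-- The residue field is unchanged. -/
def resEquiv : IsLocalRing.ResidueField R ≃+* IsLocalRing.ResidueField (Rh R) :=
  RingEquiv.ofBijective (IsLocalRing.ResidueField.map (algebraMap R (Rh R))) (AdicCompletion.residueField_map_bijective R)

variable {R} {X : Scheme.{u}} (f : X ⟶ Spec (CommRingCat.of R))

/-- The base change to the completion. -/
abbrev Xh : Scheme.{u} := pullback f (Spec.map (CommRingCat.ofHom (algebraMap R (Rh R))))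

/-- The projection to `X`. -/
abbrev gh : Xh f ⟶ X := pullback.fst f (Spec.map (CommRingCat.ofHom (algebraMap R (Rh R))))

/-- The structure morphism over the completion. -/
abbrev fh : Xh f ⟶ Spec (CommRingCat.of (Rh R)) := pullback.snd f (Spec.map (CommRingCat.ofHom (algebraMap R (Rh R))))

theorem flat_gh : Flat (gh f) := by
  refine MorphismProperty.of_isPullback (P := @Flat)
    (IsPullback.of_hasPullback f (Spec.map (CommRingCat.ofHom (algebraMap R (Rh R))))).flip ?_
  rw [Flat.SpecMap_iff]
  show (algebraMap R (Rh R)).Flat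
  rw [RingHom.flat_algebraMap_iff]
  infer_instance

theorem tGerm_gh (ϖ : R) (y : Xh f) :
    ((gh f).stalkMap y).hom (tGerm f ϖ (gh f y)) = tGerm (fh f) (algebraMap R (Rh R) ϖ) y := by
  refine (Scheme.Hom.germ_stalkMap_apply (gh f) ⊤ y trivial _).trans (congrArg _ ?_)
  show (gh f).appTop (f.appTop ((Scheme.ΓSpecIso (CommRingCat.of R)).inv ϖ)) =
    (fh f).appTop ((Scheme.ΓSpecIso (CommRingCat.of (Rh R))).inv ((CommRingCat.ofHom (algebraMap R (Rh R))) ϖ))
  rw [← ConcreteCategory.comp_apply (CommRingCat.ofHom (algebraMap R (Rh R))), Scheme.ΓSpecIso_inv_naturality]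
  show (f.appTop ≫ (gh f).appTop) _ = ((Spec.map (CommRingCat.ofHom (algebraMap R (Rh R)))).appTop ≫ (fh f).appTop) _
  rw [← Scheme.Hom.comp_appTop, ← Scheme.Hom.comp_appTop, pullback.condition]
  rfl

variable {f} {Xs : Scheme.{u}} [Xs.Over (Spec (CommRingCat.of (IsLocalRing.ResidueField R)))] {i : Xs ⟶ X}
  (hsq : IsPullback i (Xs ↘ Spec (CommRingCat.of (IsLocalRing.ResidueField R))) f
    (Spec.map (CommRingCat.ofHom (IsLocalRing.residue R))))

/-- The special fibre over the residue field of the completion. -/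
@[implicit_reducible] def overH : Xs.Over (Spec (CommRingCat.of (IsLocalRing.ResidueField (Rh R)))) :=
  ⟨(Xs ↘ Spec (CommRingCat.of (IsLocalRing.ResidueField R))) ≫
    Spec.map (CommRingCat.ofHom (resEquiv R).symm.toRingHom)⟩

include hsq in
theorem special_w : i ≫ f = ((Xs ↘ Spec (CommRingCat.of (IsLocalRing.ResidueField R))) ≫
    Spec.map (CommRingCat.ofHom (resEquiv R).symm.toRingHom) ≫
      Spec.map (CommRingCat.ofHom (IsLocalRing.residue (Rh R)))) ≫
    Spec.map (CommRingCat.ofHom (algebraMap R (Rh R))) := by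
  simp only [Category.assoc]
  rw [hsq.w]
  congr 1
  simp only [← Spec.map_comp]
  congr 1
  apply CommRingCat.hom_ext
  refine RingHom.ext fun r => ?_
  exact ((resEquiv R).symm_apply_eq.2 (IsLocalRing.ResidueField.map_residue (algebraMap R (Rh R)) r).symm).symm

/-- The special fibre inside the base change. -/
def ih : Xs ⟶ Xh f := pullback.lift i ((Xs ↘ Spec (CommRingCat.of (IsLocalRing.ResidueField R))) ≫
    Spec.map (CommRingCat.ofHom (resEquiv R).symm.toRingHom) ≫
      Spec.map (CommRingCat.ofHom (IsLocalRing.residue (Rh R)))) (special_w hsq)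

theorem ih_gh : ih hsq ≫ gh f = i := pullback.lift_fst _ _ _

theorem isPullback_ih : letI := overH (R := R) (Xs := Xs)
    IsPullback (ih hsq) (Xs ↘ Spec (CommRingCat.of (IsLocalRing.ResidueField (Rh R)))) (fh f)
      (Spec.map (CommRingCat.ofHom (IsLocalRing.residue (Rh R)))) := by
  letI := overH (R := R) (Xs := Xs)
  refine IsPullback.of_right ?_ ((pullback.lift_snd _ _ _).trans (Category.assoc _ _ _).symm) (IsPullback.of_hasPullback f _)
  rw [ih_gh hsq]
  haveI : IsIso (Spec.map (CommRingCat.ofHom (resEquiv R).symm.toRingHom)) := by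
    haveI : IsIso (CommRingCat.ofHom (resEquiv R).symm.toRingHom) := (resEquiv R).symm.toCommRingCatIso.isIso_hom
    infer_instance
  refine hsq.of_iso (Iso.refl _) (Iso.refl _) (asIso (Spec.map (CommRingCat.ofHom (resEquiv R).symm.toRingHom)))
    (Iso.refl _) (by simp) (by simp; rfl) (by simp) ?_
  simp only [asIso_hom, Iso.refl_hom, Category.comp_id]
  rw [← Spec.map_comp, ← Spec.map_comp]
  congr 1
  apply CommRingCat.hom_ext
  refine RingHom.ext fun r => ?_
  exact ((resEquiv R).symm_apply_eq.2 (IsLocalRing.ResidueField.map_residue (algebraMap R (Rh R)) r).symm).symm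

/-- The special fibre of a pulled back module. -/
def isoT (N : X.Modules) :
    (Scheme.Modules.pullback (ih hsq)).obj ((Scheme.Modules.pullback (gh f)).obj N) ≅
      (Scheme.Modules.pullback i).obj N :=
  (Scheme.Modules.pullbackComp (ih hsq) (gh f)).app N ≪≫ (Scheme.Modules.pullbackCongr (ih_gh hsq)).app N

theorem isoT_natural {A B : X.Modules} (φ : A ⟶ B) :
    (Scheme.Modules.pullback (ih hsq)).map ((Scheme.Modules.pullback (gh f)).map φ) ≫ (isoT hsq B).hom =
      (isoT hsq A).hom ≫ (Scheme.Modules.pullback i).map φ :=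
  ((Scheme.Modules.pullbackComp (ih hsq) (gh f)) ≪≫ Scheme.Modules.pullbackCongr (ih_gh hsq)).hom.naturality φ

variable [IsProper f]

include hsq in
theorem isClosedImmersion_ih : IsClosedImmersion (ih hsq) := by
  letI := overH (R := R) (Xs := Xs)
  exact MorphismProperty.of_isPullback (isPullback_ih hsq).flip
    (IsClosedImmersion.spec_of_surjective _ IsLocalRing.residue_surjective)

omit [IsProper f] [Xs.Over (Spec (CommRingCat.of (IsLocalRing.ResidueField R)))] in
/-- Compatibility of the units at a point of the special fibre. -/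
theorem uStalk_comp {Z : Scheme.{u}} (a : Xs ⟶ Z) (g : Z ⟶ X) (e : a ≫ g = i) [IsClosedImmersion i]
    [IsClosedImmersion a] (x : Xs) (N : X.Modules) (hx : g (a x) = i x) (m : N.presheaf.stalk (i x)) :
    st ((Scheme.Modules.pullbackComp a g).app N ≪≫ (Scheme.Modules.pullbackCongr e).app N).hom x
      (uStalk a ((Scheme.Modules.pullback g).obj N) x
        (pu g (a x) N (N.presheaf.stalkSpecializes (specializes_of_eq hx) m))) = uStalk i N x m := by
  subst e
  rw [← pu_eq_uStalk, ← pu_eq_uStalk, TopCat.Presheaf.stalkSpecializes_refl, ← pu_comp, ← st_comp]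
  simp only [Scheme.Modules.pullbackCongr, eqToIso_refl, Iso.trans_hom, Iso.app_hom, Iso.refl_hom, NatTrans.id_app]
  refine Eq.trans ?_ (st_id _ x _)
  congr 2
  exact (congrArg (_ ≫ ·) (Category.comp_id _)).trans (Iso.inv_hom_id_app _ _)

omit [Xs.Over (Spec (CommRingCat.of (IsLocalRing.ResidueField R)))] [IsProper f] in
/-- Torsion-free rank one modules are stable under isomorphisms. -/
theorem isTF1_of_iso {A B : Xs.Modules} (e : A ≅ B) (hB : Coh.IsCoh B) (h : TFOne.IsTF1 Xs B) (hA : Coh.IsCoh A) :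
    TFOne.IsTF1 Xs A := by
  refine ⟨hA, fun x => ?_, fun η hη => ?_⟩
  · haveI := h.2.1 x
    exact Function.Injective.moduleIsTorsionFree (fun m : A.presheaf.stalk x => st e.hom x m)
      (st_injective e.hom x) fun r m => map_smul _ r m
  · obtain ⟨l⟩ := h.2.2 η hη
    exact ⟨LinearEquiv.ofBijective (st e.hom η) ⟨st_injective e.hom η, st_surjective e.hom η⟩ ≪≫ₗ l⟩

set_option maxHeartbeats 1000000 in
include hsq in
/-- A split tower gives a flat quotient over the completion. -/
theorem exists_quotient_over_completion [IsReduced Xs]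
    (In : ℕ → X.Modules) (hIc : Coh.IsCoh (In 0)) (hIf : FlatMod.IsFlatOver f (In 0))
    (hIs : TFOne.IsTF1 Xs ((Scheme.Modules.pullback i).obj (In 0))) (Y Y' : Set Xs) (G G' : ℕ → Xs.Modules)
    (π : ∀ n : ℕ, ((Scheme.Modules.pullback i).obj (In n)) ⟶ G n)
    (π' : ∀ n : ℕ, ((Scheme.Modules.pullback i).obj (In n)) ⟶ G' n)
    (hG : ∀ n : ℕ, TFOne.IsQuotOn Xs ((Scheme.Modules.pullback i).obj (In n)) Y (G n) (π n))
    (hG' : ∀ n : ℕ, TFOne.IsQuotOn Xs ((Scheme.Modules.pullback i).obj (In n)) Y' (G' n) (π' n))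
    (hstep : ∀ n : ℕ, In (n + 1) = kernel ((Scheme.Modules.pullbackPushforwardAdjunction i).unit.app (In n) ≫
      (Scheme.Modules.pushforward i).map (π n)))
    (hdec : ∀ n : ℕ, IsIso (biprod.lift (π n) (π' n))) :
    ∃ (F : (Xh f).Modules) (p : (Scheme.Modules.pullback (gh f)).obj (In 0) ⟶ F), Epi p ∧ Coh.IsCoh F ∧
      FlatMod.IsFlatOver (fh f) F ∧
      ∃ e : (Scheme.Modules.pullback (ih hsq)).obj F ≅ G 0,
        (Scheme.Modules.pullback (ih hsq)).map p ≫ e.hom = (isoT hsq (In 0)).hom ≫ π 0 := by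
  haveI : IsLocallyNoetherian X := LocallyOfFiniteType.isLocallyNoetherian f
  haveI := isProper_special hsq
  haveI := isClosedImmersion_special hsq
  haveI := isClosedImmersion_ih hsq
  haveI : IsLocallyNoetherian Xs :=
    LocallyOfFiniteType.isLocallyNoetherian (Xs ↘ Spec (CommRingCat.of (IsLocalRing.ResidueField R)))
  haveI : IsLocallyNoetherian (Xh f) := LocallyOfFiniteType.isLocallyNoetherian (fh f)
  haveI := flat_gh f
  letI := overH (R := R) (Xs := Xs)
  have hsqh := isPullback_ih hsq
  obtain ⟨ϖ, hϖ⟩ := IsDiscreteValuationRing.exists_irreducible R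
  have hϖh : Irreducible (algebraMap R (Rh R) ϖ) := by
    rw [IsDiscreteValuationRing.irreducible_iff_uniformizer, AdicCompletion.maximalIdeal_eq_map]
    exact (congrArg (Ideal.map (algebraMap R (Rh R))) hϖ.maximalIdeal_eq).trans
      (by rw [Ideal.map_span, Set.image_singleton])
  haveI : ∀ n, Coh.IsQCoh (G n) := fun n => (hG n).2.1.1
  haveI : ∀ n, Coh.IsQCoh ((Scheme.Modules.pushforward i).obj (G n)) := fun n =>
    Groth.L16.QcqsPush.isQCoh_push (G n) i
  let ι : ∀ n, In (n + 1) ⟶ In n := step i π hstep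
  have hmono : ∀ n, Mono (ι n) := fun n => by show Mono (eqToHom (hstep n) ≫ kernel.ι _); infer_instance
  have hcoh : ∀ n, Coh.IsCoh (In n) := by
    intro n
    induction n with
    | zero => exact hIc
    | succ n ih => rw [hstep n]; exact Groth.L16.CohSupport.isCoh_kernel ih _
  have hflat : ∀ n, FlatMod.IsFlatOver f (In n) := by
    intro n
    induction n with
    | zero => exact hIf
    | succ n ih =>
      refine isFlatOver_of_injective f hϖ fun y a a' h => ?_
      haveI := hmono n
      refine st_injective (ι n) y (tGerm_smul_injective f hϖ ih y ?_)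
      exact (map_smul (st (ι n) y) _ a).symm.trans ((congrArg (st (ι n) y) h).trans (map_smul (st (ι n) y) _ a'))
  have hM : ∀ n, TFOne.IsTF1 Xs ((Scheme.Modules.pullback i).obj (In n)) := by
    intro n
    induction n with
    | zero => exact hIs
    | succ n ih =>
      obtain ⟨D⟩ := nonempty_modif' hsq (hcoh n) (hflat n) (hG n) (hstep n)
      exact D.isTF1 ih (hG n)
  let In' : ℕ → (Xh f).Modules := fun n => (Scheme.Modules.pullback (gh f)).obj (In n)
  let ι' : ∀ n, In' (n + 1) ⟶ In' n := fun n => (Scheme.Modules.pullback (gh f)).map (ι n)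
  let T := fun n => isoT hsq (In n)
  have hmono' : ∀ n, Mono (ι' n) := fun n => (Groth.L21.Mod.mono_iff_stalk_injective _).2 fun y => by
    haveI := hmono n
    exact pullback_st_injective (gh f) y (ι n) (stalk_injective (ι n) (gh f y))
  have hflat' : FlatMod.IsFlatOver (fh f) (In' 0) := by
    refine isFlatOver_of_injective (fh f) hϖh fun y a a' h => ?_
    let t := Formal.smulModΓ (In 0) (Coh.toGlobal f ϖ)
    have hinj : Function.Injective (st t (gh f y)) := fun u v huv =>
      tGerm_smul_injective f hϖ hIf (gh f y) ((stalkF_map_smulModΓ _ _ _ u).symm.trans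
        (huv.trans (stalkF_map_smulModΓ _ _ _ v)))
    have ht : ∀ z : (In' 0).presheaf.stalk y,
        st ((Scheme.Modules.pullback (gh f)).map t) y z = tGerm (fh f) (algebraMap R (Rh R) ϖ) y • z := fun z => by
      rw [← tGerm_gh]
      letI := alg (gh f) y
      apply (pe (gh f) y (In 0)).injective
      rw [pe_map, map_smul]
      generalize pe (gh f) y (In 0) z = w
      induction w using TensorProduct.induction_on with
      | zero => simp
      | tmul c n =>
        rw [LinearMap.baseChange_tmul, show st t (gh f y) n = tGerm f ϖ (gh f y) • n from stalkF_map_smulModΓ _ _ _ n,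
          TensorProduct.tmul_smul, ← algebraMap_smul (Xh f |>.presheaf.stalk y)]
        rfl
      | add u v hu hv => rw [map_add, smul_add, hu, hv]
    exact pullback_st_injective (gh f) y t hinj ((ht a).trans (h.trans (ht a').symm))
  let th : ∀ y : Xh f, (Xh f).presheaf.stalk y := fun y => tGerm (fh f) (algebraMap R (Rh R) ϖ) y
  have hsp : ∀ x : Xs, gh f (ih hsq x) = i x := fun x => by rw [← Scheme.Hom.comp_apply, ih_gh]
  let up : ∀ (n : ℕ) (x : Xs), (In n).presheaf.stalk (i x) → (In' n).presheaf.stalk (ih hsq x) := fun n x m =>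
    pu (gh f) (ih hsq x) (In n) ((In n).presheaf.stalkSpecializes (specializes_of_eq (hsp x)) m)
  have hup : ∀ (n : ℕ) (x : Xs) (m : (In n).presheaf.stalk (i x)),
      st (T n).hom x (uStalk (ih hsq) (In' n) x (up n x m)) = uStalk i (In n) x m := fun n x m =>
    uStalk_comp (ih hsq) (gh f) (ih_gh hsq) x (In n) (hsp x) m
  have hupι : ∀ (n : ℕ) (x : Xs) (a : (In (n + 1)).presheaf.stalk (i x)),
      st (ι' n) (ih hsq x) (up (n + 1) x a) = up n x (st (ι n) (i x) a) := fun n x a => by
    refine (pu_map (gh f) (ih hsq x) (ι n) _).trans (congrArg (pu (gh f) (ih hsq x) (In n)) ?_)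
    exact stalkF_map_specializes (ι n) _ a
  have hu0 : ∀ (n : ℕ) (x : Xs) (z : (In' n).presheaf.stalk (ih hsq x)),
      uStalk (ih hsq) (In' n) x (th (ih hsq x) • z) = 0 := fun n x z =>
    (uStalk_eq_zero_iff_smul (ih hsq) (fh f) _ hsqh hϖh (In' n) x _).2 ⟨z, rfl⟩
  have hdecomp : ∀ (n : ℕ) (x : Xs) (z : (In' n).presheaf.stalk (ih hsq x)),
      ∃ (m : (In n).presheaf.stalk (i x)) (z' : (In' n).presheaf.stalk (ih hsq x)),
        z = up n x m + th (ih hsq x) • z' := by
    intro n x z
    obtain ⟨m, hm⟩ := uStalk_surjective i (In n) x (st (T n).hom x (uStalk (ih hsq) (In' n) x z))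
    have hzero : uStalk (ih hsq) (In' n) x (z - up n x m) = 0 := by
      refine st_injective (T n).hom x (Eq.trans ?_ (map_zero _).symm)
      rw [map_sub, map_sub, hup, hm, sub_self]
    obtain ⟨z', hz'⟩ := (uStalk_eq_zero_iff_smul (ih hsq) (fh f) _ hsqh hϖh (In' n) x _).1 hzero
    exact ⟨m, z', by rw [hz']; exact (add_sub_cancel _ _).symm⟩
  have hmul : ∀ n (y : X) (w : (In n).presheaf.stalk y), ∃ a, st (ι n) y a = tGerm f ϖ y • w := by
    intro n y w
    by_cases hy : y ∈ Set.range i
    · obtain ⟨x, rfl⟩ := hy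
      refine (exists_of_gd_eq_zero (π n) (hstep n) x _).1 ?_
      rw [(uStalk_eq_zero_iff_smul i f _ hsq hϖ (In n) x _).2 ⟨w, rfl⟩, map_zero]
    · let g := (Scheme.Modules.pullbackPushforwardAdjunction i).unit.app (In n) ≫
        (Scheme.Modules.pushforward i).map (π n)
      obtain ⟨c, hc⟩ := (st_kernel g y).1
        (@Subsingleton.elim _ (Groth.L17.ClosedPush.subsingleton_stalk_push i (G n) hy) (st g y (tGerm f ϖ y • w)) 0)
      refine ⟨st (eqToHom (hstep n).symm) y c, ?_⟩
      rw [← st_comp]
      show st (eqToHom _ ≫ eqToHom (hstep n) ≫ kernel.ι _) y c = _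
      rw [eqToHom_trans_assoc, eqToHom_refl, Category.id_comp]
      exact hc
  have hmul' : ∀ n (y : Xh f) (w : (In' n).presheaf.stalk y), th y • w ∈ LinearMap.range (st (ι' n) y) := by
    intro n y w
    obtain ⟨v, rfl⟩ := (pe (gh f) y (In n)).symm.surjective w
    letI := alg (gh f) y
    induction v using TensorProduct.induction_on with
    | zero => simp
    | tmul c m =>
      obtain ⟨a, ha⟩ := hmul n (gh f y) m
      refine ⟨(pe (gh f) y (In (n + 1))).symm (c ⊗ₜ a), ?_⟩
      apply (pe (gh f) y (In n)).injective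
      rw [pe_map, LinearEquiv.apply_symm_apply, map_smul, LinearEquiv.apply_symm_apply, LinearMap.baseChange_tmul, ha,
        show th y = (gh f).stalkMap y (tGerm f ϖ (gh f y)) from (tGerm_gh f ϖ y).symm, TensorProduct.tmul_smul,
        ← algebraMap_smul (Xh f |>.presheaf.stalk y)]
      rfl
    | add u v hu hv => rw [map_add, smul_add]; exact add_mem hu hv
  let π₁ : ∀ n, (Scheme.Modules.pullback (ih hsq)).obj (In' n) ⟶ G n := fun n => (T n).hom ≫ π n
  let π₂ : ∀ n, (Scheme.Modules.pullback (ih hsq)).obj (In' n) ⟶ G' n := fun n => (T n).hom ≫ π' n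
  have hG₁ : ∀ n, TFOne.IsQuotOn Xs _ Y (G n) (π₁ n) := fun n => by
    haveI := (hG n).1
    exact ⟨inferInstance, (hG n).2⟩
  have hG₂ : ∀ n, TFOne.IsQuotOn Xs _ Y' (G' n) (π₂ n) := fun n => by
    haveI := (hG' n).1
    exact ⟨inferInstance, (hG' n).2⟩
  have hcoh' : ∀ n, Coh.IsCoh (In' n) := fun n => Groth.L16.AffineBC.isCoh_pullback (gh f) (hcoh n)
  have hM' : ∀ n, TFOne.IsTF1 Xs ((Scheme.Modules.pullback (ih hsq)).obj (In' n)) := fun n =>
    isTF1_of_iso (T n) (hM n).1 (hM n) (Groth.L16.AffineBC.isCoh_pullback (ih hsq) (hcoh' n))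
  have hπι : ∀ (n : ℕ) (x : Xs) (z : (In' n).presheaf.stalk (ih hsq x)),
      st (π₁ n) x (uStalk (ih hsq) (In' n) x z) = 0 ↔ ∃ a, st (ι' n) (ih hsq x) a = z := by
    intro n x z
    constructor
    · intro h
      obtain ⟨m, z', rfl⟩ := hdecomp n x z
      rw [map_add, hu0, add_zero, st_comp, hup] at h
      obtain ⟨a, rfl⟩ := (exists_of_gd_eq_zero (π n) (hstep n) x m).1 h
      obtain ⟨a', ha'⟩ := hmul' n (ih hsq x) z'
      exact ⟨up (n + 1) x a + a', by rw [map_add, ha', hupι]; rfl⟩
    · rintro ⟨a, rfl⟩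
      obtain ⟨a₀, a', rfl⟩ := hdecomp (n + 1) x a
      rw [map_add (st (ι' n) _), map_smul, hupι, map_add, hu0, add_zero, st_comp, hup]
      exact (exists_of_gd_eq_zero (π n) (hstep n) x _).2 ⟨a₀, rfl⟩
  have hoff : ∀ (n : ℕ) (y : Xh f), y ∉ Set.range (ih hsq) → ∀ m : (In' n).presheaf.stalk y,
      ∃ a, st (ι' n) y a = m := by
    intro n y hy m
    obtain ⟨v, hv⟩ := isUnit_tGerm (fh f) hϖh (ih hsq) _ hsqh hy
    obtain ⟨a, ha⟩ := hmul' n y (((v⁻¹ : ((Xh f).presheaf.stalk y)ˣ) : (Xh f).presheaf.stalk y) • m)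
    refine ⟨a, ha.trans ?_⟩
    show tGerm (fh f) (algebraMap R (Rh R) ϖ) y • _ = m
    rw [← hv, smul_smul, Units.mul_inv, one_smul]
  have hdec' : ∀ n, IsIso (biprod.lift (π₁ n) (π₂ n)) := fun n => by
    haveI := hdec n
    rw [show biprod.lift (π₁ n) (π₂ n) = (T n).hom ≫ biprod.lift (π n) (π' n) by apply biprod.hom_ext <;> simp [π₁, π₂]]
    infer_instance
  obtain ⟨F, p, hp, hFc, hF, e, he⟩ := exists_flat_quotient_of_chain (f := fh f) (i := ih hsq) hsqh In' ι' hmono' hcoh'
    hflat' hM' Y Y' G G' π₁ π₂ hG₁ hG₂ hπι hoff hdec'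
  exact ⟨F, p, hp, hFc, hF, e, he⟩

end Groth.L15.TFCurve.BC
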