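import Mathlib.RingTheory.Ideal.KrullsHeightTheorem
import Mathlib.RingTheory.Ideal.AssociatedPrime.Basic
import Mathlib.RingTheory.Filtration
import Mathlib.RingTheory.Ideal.AssociatedPrime.Localization
import Mathlib.RingTheory.Ideal.MinimalPrime.Noetherian

/-!
# A local ring with a regular element modulo which it is reduced of positive dimension

Every minimal prime is properly contained in a prime avoiding the regular element.
-/

set_option autoImplicit false
set_option linter.style.haveILetI false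

universe u

namespace Groth.L15.TFCurve.BC

variable {O : Type u} [CommRing O] [IsNoetherianRing O] [IsLocalRing O]

theorem exists_prime_lt {t : O} (ht : IsSMulRegular O t) (htm : t ∈ IsLocalRing.maximalIdeal O)
    (hred : (Ideal.span {t}).IsRadical) (hm : IsLocalRing.maximalIdeal O ∉ (Ideal.span {t}).minimalPrimes)
    {p : Ideal O} (hp : p ∈ minimalPrimes O) : ∃ P : Ideal O, P.IsPrime ∧ p < P ∧ t ∉ P := by
  haveI hpp : p.IsPrime := hp.isPrime
  -- an element with annihilator `p` outside `tO`
  obtain ⟨a, hmem⟩ : ∃ a : O, ∀ r, r ∈ p ↔ r * a = 0 := by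
    have h1 : p ∈ associatedPrimes O O :=
      Module.associatedPrimes.minimalPrimes_annihilator_subset_associatedPrimes O O (by
        rw [Module.annihilator_eq_bot.2 inferInstance]; exact hp)
    obtain ⟨-, a, ha⟩ := isAssociatedPrime_iff.1 h1
    exact ⟨a, fun r => by rw [ha, Submodule.mem_colon_singleton, Submodule.mem_bot, smul_eq_mul]⟩
  have htp : t ∉ p := fun h => by
    have h1 : a = 0 := ht ((hmem t).1 h |>.trans (smul_zero t).symm)
    exact hpp.ne_top ((Ideal.eq_top_iff_one p).2 ((hmem 1).2 (by rw [h1, mul_zero])))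
  have ha0 : a ≠ 0 := fun h1 => hpp.ne_top ((Ideal.eq_top_iff_one p).2 ((hmem 1).2 (by rw [h1, mul_zero])))
  obtain ⟨a, hat, hmem⟩ : ∃ a : O, a ∉ Ideal.span {t} ∧ ∀ r, r ∈ p → r * a = 0 := by
    have hne : ∃ n, a ∉ Ideal.span {t} ^ n := by
      by_contra! h
      have : a ∈ ⨅ n, Ideal.span {t} ^ n := Submodule.mem_iInf _ |>.2 h
      rw [Ideal.iInf_pow_eq_bot_of_isLocalRing _ (ne_top_of_le_ne_top
        (IsLocalRing.maximalIdeal.isMaximal O).ne_top ((Ideal.span_singleton_le_iff_mem _).2 htm))] at this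
      exact ha0 this
    classical
    have h0 : Nat.find hne ≠ 0 := fun h => Nat.find_spec hne (by rw [h, pow_zero, Ideal.one_eq_top]; trivial)
    obtain ⟨n, hn⟩ := Nat.exists_eq_succ_of_ne_zero h0
    have h1 : a ∈ Ideal.span {t} ^ n := not_not.1 (Nat.find_min hne (by omega))
    rw [Ideal.span_singleton_pow, Ideal.mem_span_singleton] at h1
    obtain ⟨b, rfl⟩ := h1
    refine ⟨b, fun hb => Nat.find_spec hne ?_, fun r hr => (IsSMulRegular.pow n ht) ?_⟩
    · rw [Ideal.mem_span_singleton] at hb
      obtain ⟨c, rfl⟩ := hb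
      rw [hn, Ideal.span_singleton_pow, Ideal.mem_span_singleton]
      exact ⟨c, by rw [pow_succ, mul_assoc]⟩
    · show t ^ n * (r * b) = t ^ n • (0 : O)
      rw [smul_zero, mul_left_comm]
      exact (hmem r).1 hr
  -- a prime strictly between
  obtain ⟨Q, hQ, haQ⟩ : ∃ Q ∈ (Ideal.span {t}).minimalPrimes, a ∉ Q := by
    by_contra! h
    apply hat
    rw [← hred.radical, ← Ideal.sInf_minimalPrimes]
    exact Ideal.mem_sInf.2 fun {Q} hQ => h Q hQ
  have hQp : Q.IsPrime := hQ.1.1
  have hpQ : p < Q := by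
    refine lt_of_le_of_ne (fun r hr => (hQp.mem_or_mem (show r * a ∈ Q by rw [hmem r hr]; exact Q.zero_mem)).resolve_right haQ) ?_
    rintro rfl
    exact htp ((Ideal.span_singleton_le_iff_mem _).1 hQ.1.2)
  have hQm : Q < IsLocalRing.maximalIdeal O :=
    lt_of_le_of_ne (IsLocalRing.le_maximalIdeal hQp.ne_top) fun h => hm (h ▸ hQ)
  by_contra! hall
  -- the quotient by `p` has dimension at most one
  let A := O ⧸ p
  let π := Ideal.Quotient.mk p
  have hsurj : Function.Surjective π := Ideal.Quotient.mk_surjective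
  have hker : RingHom.ker π = p := Ideal.mk_ker
  have htA : π t ≠ 0 := fun h => htp (Ideal.Quotient.eq_zero_iff_mem.1 h)
  have hA : ∀ P : Ideal A, P.IsPrime → P ≠ ⊥ → π t ∈ P := fun P hP hne => by
    haveI := hP
    refine hall (P.comap π) (Ideal.IsPrime.comap π) ?_
    have hle : p ≤ P.comap π := fun r hr => by
      show π r ∈ P
      rw [show π r = 0 from Ideal.Quotient.eq_zero_iff_mem.2 hr]
      exact P.zero_mem
    refine lt_of_le_of_ne hle fun h => hne ?_
    rw [← Ideal.map_comap_of_surjective π hsurj P, ← h]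
    exact Ideal.map_quotient_self p
  let S := (Ideal.span {π t}).minimalPrimes
  let mA := (IsLocalRing.maximalIdeal O).map π
  let QA := Q.map π
  haveI : QA.IsPrime := Ideal.map_isPrime_of_surjective hsurj (hker.le.trans hpQ.le)
  haveI hmA : mA.IsPrime :=
    Ideal.map_isPrime_of_surjective hsurj (hker.le.trans (IsLocalRing.le_maximalIdeal hpp.ne_top))
  have hsub : (mA : Set A) ⊆ ⋃ P ∈ S, (P : Set A) := fun b hb => by
    by_cases hb0 : b = 0
    · obtain ⟨P, hP, -⟩ := Ideal.exists_minimalPrimes_le (show Ideal.span {π t} ≤ mA by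
        rw [Ideal.span_singleton_le_iff_mem]; exact Ideal.mem_map_of_mem π htm)
      exact Set.mem_iUnion₂.2 ⟨P, hP, by rw [hb0]; exact P.zero_mem⟩
    · obtain ⟨P, hP, -⟩ := Ideal.exists_minimalPrimes_le (show Ideal.span {b} ≤ mA from
        (Ideal.span_singleton_le_iff_mem _).2 hb)
      haveI := hP.1.1
      have hbP : b ∈ P := (Ideal.span_singleton_le_iff_mem _).1 hP.1.2
      have hP0 : P ≠ ⊥ := fun h => hb0 (by rw [h] at hbP; exact hbP)
      obtain ⟨P', hP', hle⟩ := Ideal.exists_minimalPrimes_le (show Ideal.span {π t} ≤ P from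
        (Ideal.span_singleton_le_iff_mem _).2 (hA P inferInstance hP0))
      refine Set.mem_iUnion₂.2 ⟨P', hP', ?_⟩
      rcases hle.lt_or_eq with hlt | rfl
      · exfalso
        haveI := hP'.1.1
        have hb' : (⊥ : Ideal A) < P' :=
          bot_lt_iff_ne_bot.2 fun h => htA (by
            have := (Ideal.span_singleton_le_iff_mem _).1 hP'.1.2
            rw [h] at this; exact this)
        haveI : P.FiniteHeight := inferInstance
        have h1 := Ideal.height_strict_mono_of_isPrime hb'
        have h2 := Ideal.height_strict_mono_of_isPrime hlt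
        have h3 : P.height ≤ 1 :=
          Ideal.height_le_one_of_isPrincipal_of_mem_minimalPrimes (Ideal.span {b}) P hP
        rw [ENat.lt_one_iff_eq_zero.1 (h2.trans_le h3)] at h1
        exact not_lt_bot (α := ℕ∞) h1
      · exact hbP
  obtain ⟨P, hP, hle⟩ := (Ideal.subset_union_prime_finite
    (Ideal.finite_minimalPrimes_of_isNoetherianRing A (Ideal.span {π t})) (f := id) ⊥ ⊥ fun P hP _ _ => hP.1.1).1 hsub
  haveI := hP.1.1
  have h1 : (⊥ : Ideal A) < QA := bot_lt_iff_ne_bot.2 fun h =>
    hpQ.not_ge (((Ideal.map_eq_bot_iff_le_ker π).1 h).trans hker.le)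
  have h2 : QA < mA := by
    refine lt_of_le_of_ne (Ideal.map_mono hQm.le) fun h => hQm.ne ?_
    have h' := congrArg (Ideal.comap π) h
    simp only [QA, mA, Ideal.comap_map_of_surjective' π hsurj, hker] at h'
    rwa [sup_of_le_left hpQ.le, sup_of_le_left (IsLocalRing.le_maximalIdeal hpp.ne_top)] at h'
  have h4 := Ideal.height_strict_mono_of_isPrime h1
  have h5 := Ideal.height_strict_mono_of_isPrime (h2.trans_le hle)
  have h3 : P.height ≤ 1 := Ideal.height_le_one_of_isPrincipal_of_mem_minimalPrimes (Ideal.span {π t}) P hP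
  rw [ENat.lt_one_iff_eq_zero.1 (h5.trans_le h3)] at h4
  exact not_lt_bot (α := ℕ∞) h4

end Groth.L15.TFCurve.BC
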