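import Groth.Agent.L15.TFCurve.BC.FibreGlue
import Groth.Agent.L15.TFCurve.BC.DimTwo
import Groth.Agent.L15.TFCurve.BC.TorFree
import Groth.Agent.L15.TFCurve.Beta
import Groth.Agent.L15.TFCurve.Limit
import Groth.Agent.L21.CurvFib.DimExt
import Groth.Agent.L23.SchemeFacts
import Groth.Agent.S0435
import Mathlib.AlgebraicGeometry.Morphisms.Integral
import Mathlib.AlgebraicGeometry.Morphisms.Preimmersion

/-!
# The geometric generic fibre of a family of curves over a discrete valuation ring
-/

set_option autoImplicit false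
set_option linter.style.haveILetI false
set_option backward.isDefEq.respectTransparency false
set_option backward.isDefEq.respectTransparency.types false

universe u

open CategoryTheory CategoryTheory.Limits AlgebraicGeometry TopologicalSpace

noncomputable section

namespace Groth.L15.TFCurve.BC

open Groth.L15.TFCurve

/-- A sober space without chains of three points has dimension at most one. -/
theorem dim_le_one_of_chain {α : Type u} [TopologicalSpace α] [QuasiSober α] [T0Space α]
    (h : ∀ a b c : α, a ⤳ b → b ⤳ c → a = b ∨ b = c) : topologicalKrullDim α ≤ 1 := by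
  refine Order.krullDim_le_one_iff.2 fun A => ?_
  obtain ⟨x, hx⟩ := QuasiSober.sober A.2 A.3
  by_contra hc
  rw [not_or, not_isMin_iff, not_isMax_iff] at hc
  obtain ⟨⟨B, hB⟩, ⟨C, hC⟩⟩ := hc
  obtain ⟨y, hy⟩ := QuasiSober.sober B.2 B.3
  obtain ⟨z, hz⟩ := QuasiSober.sober C.2 C.3
  rcases h z x y (hz.specializes (hC.le (hx.mem))) (hx.specializes (hB.le hy.mem)) with h' | h'
  · subst h'
    exact hC.ne (IrreducibleCloseds.ext (hx.def.symm.trans hz.def))
  · subst h'
    exact hB.ne (IrreducibleCloseds.ext (hy.def.symm.trans hx.def))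

/-- A component which is not a point of a space of dimension at most one has dimension one. -/
theorem dim_component {α : Type u} [TopologicalSpace α] [QuasiSober α] [T0Space α]
    (hd : topologicalKrullDim α ≤ 1) (h : ∀ ζ ∈ genericPoints α, ¬ IsClosed ({ζ} : Set α)) :
    ∀ C ∈ irreducibleComponents α, topologicalKrullDim C = 1 := by
  intro C hC
  have hCc := isClosed_of_mem_irreducibleComponents C hC
  refine le_antisymm ((topologicalKrullDim_subspace_le α C).trans hd) ?_
  obtain ⟨ζ, hζ, hζC⟩ := exists_genericPoint_of_component hC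
  obtain ⟨y, hy, hne⟩ : ∃ y ∈ closure ({ζ} : Set α), y ≠ ζ := by
    by_contra! hall
    exact h ζ hζ (closure_subset_iff_isClosed.1 fun y hy => hall y hy)
  let z : C := ⟨y, hζC ▸ hy⟩
  have hζmem : ζ ∈ C := hζC ▸ subset_closure rfl
  let A : IrreducibleCloseds C :=
    ⟨closure {z}, isIrreducible_singleton.closure, isClosed_closure⟩
  let B : IrreducibleCloseds C :=
    ⟨closure {(⟨ζ, hζmem⟩ : C)}, isIrreducible_singleton.closure, isClosed_closure⟩
  refine Order.one_le_krullDim_iff.2 ⟨A, B, lt_of_le_of_ne (fun w hw => ?_) fun hAB => ?_⟩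
  · show w ∈ closure {(⟨ζ, hζmem⟩ : C)}
    rw [← specializes_iff_mem_closure, subtype_specializes_iff]
    exact specializes_iff_mem_closure.2 (hζC.ge w.2)
  · have h1 : (⟨ζ, hζmem⟩ : C) ∈ closure ({z} : Set C) := by
      rw [show closure ({z} : Set C) = closure {(⟨ζ, hζmem⟩ : C)} from congrArg IrreducibleCloseds.carrier hAB]
      exact subset_closure rfl
    rw [← specializes_iff_mem_closure, subtype_specializes_iff] at h1
    exact hne (eq_of_specializes hζ h1)

variable {R : Type u} [CommRing R] [IsDomain R] [IsDiscreteValuationRing R] {X : Scheme.{u}}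
  {f : X ⟶ Spec (CommRingCat.of R)} [IsProper f] [Flat f] {Xs : Scheme.{u}}
  {qs : Xs ⟶ Spec (CommRingCat.of (IsLocalRing.ResidueField R))} {i : Xs ⟶ X}
  (hsq : IsPullback i qs f (Spec.map (CommRingCat.ofHom (IsLocalRing.residue R))))

include hsq

omit [Flat f] in
/-- Every point of the generic fibre specialises to a closed point of the special fibre. -/
theorem exists_closed_specialization [IsNoetherian X] (η : X) :
    ∃ x : Xs, IsClosed ({x} : Set Xs) ∧ η ⤳ i x := by
  obtain ⟨w, hw, hwc⟩ := exists_mem_closedFibre f (Z := closure {η}) isClosed_closure ⟨η, subset_closure rfl⟩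
  haveI : IsClosedImmersion i :=
    MorphismProperty.of_isPullback hsq.flip (IsClosedImmersion.spec_of_surjective _ IsLocalRing.residue_surjective)
  have hne : (i ⁻¹' closure {η}).Nonempty := by
    obtain ⟨x, rfl⟩ := (range_of_special hsq).ge hwc
    exact ⟨x, hw⟩
  haveI : CompactSpace Xs := ⟨i.isClosedEmbedding.isCompact_preimage isCompact_univ |> fun h => by simpa using h⟩
  obtain ⟨x, hx, hxc⟩ := IsClosed.exists_closed_singleton (isClosed_closure.preimage i.continuous) hne
  exact ⟨x, hxc, specializes_iff_mem_closure.2 hx⟩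

omit [IsProper f] [Flat f] in
theorem eq_closedPoint (x : Xs) : f (i x) = IsLocalRing.closedPoint R :=
  (range_of_special hsq).le ⟨x, rfl⟩

variable [IsReduced Xs] (hpure : ∀ C ∈ irreducibleComponents (Xs : Type u), topologicalKrullDim C = 1)

include hpure

omit [IsProper f] [IsReduced Xs] in
/-- The uniformiser is regular, and reduced modulo it, at points of the special fibre. -/
theorem isSMulRegular_tGerm {ϖ : R} (hϖ : Irreducible ϖ) (y : X) :
    IsSMulRegular (X.presheaf.stalk y) (tGerm f ϖ y) := by
  let S := (Spec (CommRingCat.of R)).presheaf.stalk (f y)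
  let a : S := (Spec (CommRingCat.of R)).presheaf.germ ⊤ (f y) trivial ((Scheme.ΓSpecIso (CommRingCat.of R)).inv ϖ)
  have ha : a ≠ 0 := fun h => hϖ.ne_zero (by
    have h1 := (germ_injective_of_isIntegral (Spec (CommRingCat.of R)) (f y) (U := ⊤) trivial)
      (h.trans (map_zero _).symm)
    simpa using congrArg (Scheme.ΓSpecIso (CommRingCat.of R)).hom h1)
  have hat : (f.stalkMap y).hom a = tGerm f ϖ y := Scheme.Hom.germ_stalkMap_apply f ⊤ y trivial _
  letI := (f.stalkMap y).hom.toAlgebra
  haveI : Module.Flat S (X.presheaf.stalk y) := Flat.stalkMap f y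
  have hreg := Module.IsTorsionFree.isSMulRegular (R := S) (M := X.presheaf.stalk y) (isRegular_of_ne_zero ha)
  intro m m' h
  refine hreg ?_
  show ((f.stalkMap y).hom a) * m = ((f.stalkMap y).hom a) * m'
  rw [hat]
  exact h

/-- The local ring at a closed point of the special fibre: every point of the generic fibre
generising it is properly generised or specialises inside the generic fibre. -/
theorem exists_specialization_generic [IsNoetherian X] {η : X} (hη : η ∈ genericPoints X) :
    ∃ z : X, η ⤳ z ∧ z ≠ η ∧ f z ≠ IsLocalRing.closedPoint R := by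
  obtain ⟨x, hxc, hηx⟩ := exists_closed_specialization hsq η
  obtain ⟨ϖ, hϖ⟩ := IsDiscreteValuationRing.exists_irreducible R
  haveI : IsClosedImmersion i :=
    MorphismProperty.of_isPullback hsq.flip (IsClosedImmersion.spec_of_surjective _ IsLocalRing.residue_surjective)
  let O := X.presheaf.stalk (i x)
  let t := tGerm f ϖ (i x)
  have htm : t ∈ IsLocalRing.maximalIdeal O :=
    (IsLocalRing.mem_maximalIdeal _).2 (not_isUnit_tGerm f hϖ (eq_closedPoint hsq x))
  have hker := ker_stalkMap_eq i f qs hsq hϖ x
  have hred : (Ideal.span {t}).IsRadical := by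
    rw [← hker]
    exact RingHom.ker_isRadical_iff_reduced_of_surjective (i.stalkMap_surjective x) |>.2 inferInstance
  have hm : IsLocalRing.maximalIdeal O ∉ (Ideal.span {t}).minimalPrimes := by
    intro hmin
    have hgen : x ∈ genericPoints Xs := by
      refine mem_genericPoints_of_forall fun y hy => ?_
      obtain ⟨Q, rfl⟩ : y ∈ Set.range (Xs.fromSpecStalk x) := by
        rw [Scheme.range_fromSpecStalk]; exact hy
      let Q' : PrimeSpectrum (Xs.presheaf.stalk x) := Q
      have h1 : Ideal.span {t} ≤ Q'.asIdeal.comap (i.stalkMap x).hom := by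
        rw [← hker, RingHom.ker_eq_comap_bot]; exact Ideal.comap_mono bot_le
      have h2 : IsLocalRing.maximalIdeal O ≤ Q'.asIdeal.comap (i.stalkMap x).hom :=
        hmin.2 ⟨Ideal.IsPrime.comap _, h1⟩ (IsLocalRing.le_maximalIdeal (Ideal.IsPrime.comap _).ne_top)
      have hQ : Q = IsLocalRing.closedPoint (Xs.presheaf.stalk x) := by
        refine PrimeSpectrum.ext (le_antisymm (IsLocalRing.le_maximalIdeal Q'.2.ne_top) fun a ha => ?_)
        obtain ⟨b, rfl⟩ := i.stalkMap_surjective x a
        exact h2 ((IsLocalRing.mem_maximalIdeal _).2 fun hb => (IsLocalRing.mem_maximalIdeal _).1 ha (hb.map _))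
      rw [hQ]
      exact Scheme.fromSpecStalk_closedPoint
    have h1 := hpure _ (show closure {x} ∈ irreducibleComponents (Xs : Type u) from hgen)
    rw [hxc.closure_eq, topologicalKrullDim] at h1
    haveI : Subsingleton (IrreducibleCloseds ({x} : Set Xs)) := by
      refine ⟨fun A B => IrreducibleCloseds.ext ?_⟩
      obtain ⟨a, ha⟩ := A.2.1
      obtain ⟨b, hb⟩ := B.2.1
      ext w
      exact ⟨fun _ => Subsingleton.elim b w ▸ hb, fun _ => Subsingleton.elim a w ▸ ha⟩
    have h2 := Order.krullDim_nonpos_of_subsingleton (α := IrreducibleCloseds ({x} : Set Xs))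
    rw [h1] at h2
    exact absurd h2 (by decide)
  obtain ⟨Q, hQη, hQt⟩ : ∃ Q : PrimeSpectrum O, X.fromSpecStalk (i x) Q = η ∧ True := by
    have h : η ∈ Set.range (X.fromSpecStalk (i x)) := by rw [Scheme.range_fromSpecStalk]; exact hηx
    exact ⟨h.choose, h.choose_spec, trivial⟩
  have hQmin : Q.asIdeal ∈ minimalPrimes O := by
    refine ⟨⟨Q.2, bot_le⟩, fun P hP hle => ?_⟩
    let P' : PrimeSpectrum O := ⟨P, hP.1⟩
    have hsp : X.fromSpecStalk (i x) P' ⤳ η :=
      hQη ▸ ((PrimeSpectrum.le_iff_specializes P' Q).1 hle).map (X.fromSpecStalk (i x)).continuous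
    have := (X.fromSpecStalk (i x)).isEmbedding.injective ((eq_of_specializes hη hsp).trans hQη.symm)
    exact (congrArg PrimeSpectrum.asIdeal this).ge
  obtain ⟨P, hP, hQP, htP⟩ := exists_prime_lt (isSMulRegular_tGerm hsq hpure hϖ (i x)) htm hred hm hQmin
  let P' : PrimeSpectrum O := ⟨P, hP⟩
  refine ⟨X.fromSpecStalk (i x) P', ?_, fun h => hQP.ne ?_, apply_fromSpecStalk f hϖ (i x) P' htP⟩
  · exact hQη ▸ ((PrimeSpectrum.le_iff_specializes Q P').1 hQP.le).map (X.fromSpecStalk (i x)).continuous
  · exact (congrArg PrimeSpectrum.asIdeal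
      ((X.fromSpecStalk (i x)).isEmbedding.injective (h.trans hQη.symm))).symm

omit [IsReduced Xs] in
/-- There are no chains of three points in the generic fibre. -/
theorem chain_generic [IsNoetherian X] {a b c : X} (ha : f a ≠ IsLocalRing.closedPoint R)
    (hc : f c ≠ IsLocalRing.closedPoint R) (hab : a ⤳ b) (hbc : b ⤳ c) : a = b ∨ b = c := by
  by_contra! hne
  obtain ⟨x, -, hcx⟩ := exists_closed_specialization hsq c
  obtain ⟨ϖ, hϖ⟩ := IsDiscreteValuationRing.exists_irreducible R
  haveI : IsClosedImmersion i :=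
    MorphismProperty.of_isPullback hsq.flip (IsClosedImmersion.spec_of_surjective _ IsLocalRing.residue_surjective)
  haveI : IsLocallyNoetherian Xs := LocallyOfFiniteType.isLocallyNoetherian i
  let O := X.presheaf.stalk (i x)
  have hpts : ∀ z : X, z ⤳ i x → ∃ Q : PrimeSpectrum O, X.fromSpecStalk (i x) Q = z := fun z hz => by
    have h : z ∈ Set.range (X.fromSpecStalk (i x)) := by rw [Scheme.range_fromSpecStalk]; exact hz
    exact ⟨h.choose, h.choose_spec⟩
  obtain ⟨A, rfl⟩ := hpts a (hab.trans (hbc.trans hcx))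
  obtain ⟨B, rfl⟩ := hpts b (hbc.trans hcx)
  obtain ⟨C, rfl⟩ := hpts c hcx
  have hlt : ∀ {P Q : PrimeSpectrum O}, X.fromSpecStalk (i x) P ⤳ X.fromSpecStalk (i x) Q →
      X.fromSpecStalk (i x) P ≠ X.fromSpecStalk (i x) Q → P < Q := fun {P Q} h hne =>
    lt_of_le_of_ne ((PrimeSpectrum.le_iff_specializes P Q).2
      ((X.fromSpecStalk (i x)).isEmbedding.isInducing.specializes_iff.1 h)) fun e => hne (e ▸ rfl)
  have h1 := hlt hab hne.1
  have h2 := hlt hbc hne.2
  have h3 : C < IsLocalRing.closedPoint O := lt_of_le_of_ne (IsLocalRing.le_maximalIdeal C.2.ne_top) fun e =>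
    hc (by rw [e, Scheme.fromSpecStalk_closedPoint]; exact eq_closedPoint hsq x)
  have hdimO : ringKrullDim O ≤ 2 := by
    have ht : tGerm f ϖ (i x) ∈ IsLocalRing.maximalIdeal O :=
      (IsLocalRing.mem_maximalIdeal _).2 (not_isUnit_tGerm f hϖ (eq_closedPoint hsq x))
    refine (ringKrullDim_le_ringKrullDim_quotient_add_spanFinrank (R := O) (Ideal.span {tGerm f ϖ (i x)})
      (((Ideal.span_singleton_le_iff_mem _).2 ht).trans (IsLocalRing.ringJacobson_eq_maximalIdeal O).ge)).trans ?_
    have e : O ⧸ Ideal.span {tGerm f ϖ (i x)} ≃+* Xs.presheaf.stalk x :=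
      (Ideal.quotEquivOfEq (ker_stalkMap_eq i f qs hsq hϖ x).symm).trans
        (RingHom.quotientKerEquivOfSurjective (i.stalkMap_surjective x))
    rw [ringKrullDim_eq_of_ringEquiv e]
    have h4 : ringKrullDim (Xs.presheaf.stalk x) ≤ 1 :=
      le_trans ((Xs.fromSpecStalk x).isEmbedding.isInducing.topologicalKrullDim_le |> fun h =>
        (PrimeSpectrum.topologicalKrullDim_eq_ringKrullDim _).symm.le.trans h) (dim_le_one hpure)
    calc ringKrullDim (Xs.presheaf.stalk x) + ((Ideal.span {tGerm f ϖ (i x)}).spanFinrank : WithBot ℕ∞)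
        ≤ (1 : WithBot ℕ∞) + (1 : ℕ) := add_le_add h4 (by exact_mod_cast
          (Submodule.spanFinrank_span_le_ncard_of_finite (Set.finite_singleton _)).trans (Set.ncard_singleton _).le)
      _ = 2 := by norm_num
  let l : LTSeries (PrimeSpectrum O) :=
    (((RelSeries.singleton _ A).snoc B h1).snoc C (by simpa using h2)).snoc (IsLocalRing.closedPoint O) (by simpa using h3)
  have h5 := Order.LTSeries.length_le_krullDim l
  have h6 : ((l.length : ℕ∞) : WithBot ℕ∞) ≤ 2 := h5.trans hdimO
  have hl : l.length = 3 := by simp [l]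
  rw [hl] at h6
  have h7 : ((3 : ℕ∞)) ≤ 2 := WithBot.coe_le_coe.1 h6
  exact absurd h7 (by norm_num)

omit [IsReduced Xs] hpure in
/-- Geometric reducedness spreads from the special fibre. -/
theorem isReduced_generic [GeometricallyReduced qs] {Ω : Type u} [Field Ω] {φ : R →+* Ω}
    (hφ : Function.Injective φ) {Y : Scheme.{u}} {g : Y ⟶ X} {q : Y ⟶ Spec (CommRingCat.of Ω)}
    (sq : IsPullback g q f (Spec.map (CommRingCat.ofHom φ))) : IsReduced Y := by
  haveI := Groth.L23.lfp_of_lft_locallyNoetherian f
  let S := Spec (CommRingCat.of R)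
  let c : S := IsLocalRing.closedPoint R
  have hc : GeometricallyReduced (f.fiberToSpecResidueField c) := by
    refine ⟨fun K _ y Z fst snd h => ?_⟩
    have h' : IsPullback (fst ≫ f.fiberι c) snd f (y ≫ S.fromSpecResidueField c) :=
      h.paste_horiz (IsPullback.of_hasPullback _ _)
    obtain ⟨ψ, hψ⟩ := Spec.map_surjective (y ≫ S.fromSpecResidueField c)
    rw [← hψ] at h'
    have hk : ∀ r ∈ IsLocalRing.maximalIdeal R, ψ.hom r = 0 := by
      refine (hom_cases ψ.hom).resolve_left fun hinj => ?_
      have h1 : (Spec.map ψ (IsLocalRing.closedPoint K) : PrimeSpectrum R) = IsLocalRing.closedPoint R := by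
        rw [hψ, Scheme.Hom.comp_apply]
        exact Scheme.fromSpecResidueField_apply c _
      apply closedPoint_ne_bot (R := R)
      rw [← h1]
      show Ideal.comap ψ.hom (IsLocalRing.maximalIdeal K) = ⊥
      rw [IsLocalRing.maximalIdeal_eq_bot]
      exact (RingHom.injective_iff_ker_eq_bot ψ.hom).1 hinj
    obtain ⟨l, χ, hl, -⟩ := exists_lift_special hsq hk h'
    exact GeometricallyReduced.geometrically_isReduced _ _ _ hl
  let w : Spec (CommRingCat.of Ω) := IsLocalRing.closedPoint Ω
  let t := Spec.map (CommRingCat.ofHom φ)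
  have hy : GeometricallyReduced (f.fiberToSpecResidueField (t w)) :=
    (show t w ⤳ c from IsLocalRing.specializes_closedPoint (t w : PrimeSpectrum R)).mem_open
      (Groth.Agent.S0435.result f) hc
  let y := Spec.map (S.descResidueField (Scheme.stalkClosedPointTo t))
  have hyt : y ≫ S.fromSpecResidueField (t w) = t :=
    Scheme.descResidueField_stalkClosedPointTo_fromSpecResidueField Ω S t
  have h1 : (g ≫ f) = (q ≫ y) ≫ S.fromSpecResidueField (t w) := by rw [Category.assoc, hyt, sq.w]
  let l := pullback.lift g (q ≫ y) h1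
  have h2 : IsPullback l q (f.fiberToSpecResidueField (t w)) y := by
    refine IsPullback.of_right ?_ (pullback.lift_snd _ _ _) (IsPullback.of_hasPullback f (S.fromSpecResidueField (t w)))
    rw [show l ≫ pullback.fst f (S.fromSpecResidueField (t w)) = g from pullback.lift_fst _ _ _, hyt]
    exact sq
  exact hy.geometrically_isReduced _ _ _ h2

/-- The geometric generic fibre has pure dimension one. -/
theorem hpure_generic {Ω : Type u} [Field Ω] [Algebra (FractionRing R) Ω] [Algebra.IsAlgebraic (FractionRing R) Ω]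
    {Y : Scheme.{u}} {g : Y ⟶ X} {q : Y ⟶ Spec (CommRingCat.of Ω)}
    (sq : IsPullback g q f
      (Spec.map (CommRingCat.ofHom ((algebraMap (FractionRing R) Ω).comp (algebraMap R (FractionRing R)))))) :
    ∀ C ∈ irreducibleComponents (Y : Type u), topologicalKrullDim C = 1 := by
  haveI : CompactSpace (Spec (CommRingCat.of R)) := inferInstance
  haveI : IsLocallyNoetherian X := LocallyOfFiniteType.isLocallyNoetherian f
  haveI : CompactSpace X := QuasiCompact.compactSpace_of_compactSpace f
  haveI : IsNoetherian X := ⟨⟩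
  let K := FractionRing R
  let ρ := Spec.map (CommRingCat.ofHom (algebraMap R K))
  let s := Spec.map (CommRingCat.ofHom (algebraMap K Ω))
  let Xk := pullback f ρ
  let p := pullback.fst f ρ
  let qk := pullback.snd f ρ
  haveI : IsPreimmersion ρ := IsPreimmersion.of_isLocalization (nonZeroDivisors R)
  haveI : IsPreimmersion p :=
    MorphismProperty.of_isPullback (P := @IsPreimmersion) (IsPullback.of_hasPullback f ρ).flip inferInstance
  haveI : Flat p := by
    refine MorphismProperty.of_isPullback (P := @Flat) (IsPullback.of_hasPullback f ρ).flip ?_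
    rw [Flat.SpecMap_iff]
    show (algebraMap R K).Flat
    rw [RingHom.flat_algebraMap_iff]
    exact IsLocalization.flat K (nonZeroDivisors R)
  have hrange : ∀ z : Xk, f (p z) ≠ IsLocalRing.closedPoint R := fun z =>
    (range_of_injective (IsFractionRing.injective R K) (IsPullback.of_hasPullback f ρ)).le ⟨z, rfl⟩
  have hdim : topologicalKrullDim Xk ≤ 1 := dim_le_one_of_chain fun a b c hab hbc =>
    (chain_generic hsq hpure (hrange a) (hrange c) (hab.map p.continuous) (hbc.map p.continuous)).imp
      (fun h => p.isEmbedding.injective h) fun h => p.isEmbedding.injective h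
  rw [CommRingCat.ofHom_comp, Spec.map_comp] at sq
  let l := pullback.lift g (q ≫ s) (by rw [Category.assoc]; exact sq.w)
  have hl : IsPullback l q qk s := by
    refine IsPullback.of_right ?_ (pullback.lift_snd _ _ _) (IsPullback.of_hasPullback f ρ)
    rw [show l ≫ p = g from pullback.lift_fst _ _ _]
    exact sq
  haveI : IsIntegralHom l := by
    refine MorphismProperty.of_isPullback (P := @IsIntegralHom) hl.flip ?_
    rw [IsIntegralHom.SpecMap_iff]
    exact fun z => Algebra.IsIntegral.isIntegral z
  haveI : Flat l := by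
    refine MorphismProperty.of_isPullback (P := @Flat) hl.flip ?_
    rw [Flat.SpecMap_iff]
    show (algebraMap K Ω).Flat
    rw [RingHom.flat_algebraMap_iff]
    infer_instance
  have hdimY : topologicalKrullDim Y ≤ 1 := by
    rw [Groth.L21.CurvFib.topologicalKrullDim_eq_of_isPullback K Ω qk s q l hl]
    exact hdim
  refine dim_component hdimY fun ζ hζ hcl => ?_
  have hc' : IsClosed ({l ζ} : Set Xk) := by simpa using l.isClosedMap _ hcl
  have hη := mem_genericPoints_of_flat p (mem_genericPoints_of_flat l hζ)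
  obtain ⟨z, hηz, hne, hz⟩ := exists_specialization_generic hsq hpure hη
  obtain ⟨z', rfl⟩ := (range_of_injective (IsFractionRing.injective R K) (IsPullback.of_hasPullback f ρ)).ge hz
  have h1 : l ζ ⤳ z' := p.isEmbedding.isInducing.specializes_iff.1 hηz
  have h2 : z' ∈ ({l ζ} : Set Xk) := hc'.closure_subset (specializes_iff_mem_closure.1 h1)
  exact hne (by rw [Set.mem_singleton_iff.1 h2])

end Groth.L15.TFCurve.BC
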