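import Groth.Agent.L15.TFCurve.BC.Completion
import Groth.Agent.L15.TFCurve.Beta
import Groth.Agent.L15.TFCurve.BC.FibreGlue
import Groth.Agent.L03.ShStab.EulerConst
import Groth.Agent.L17.BC.TensorA
import Groth.Agent.L17.Strat.Quot
import Groth.Agent.L17.ChangeRings
import Groth.Agent.L29.DCoh.PullTensor
import Groth.Agent.L29.DCoh.RelBC
import Groth.Agent.L07.ModSep.Spec
import Groth.Agent.L21.RR.BaseChange
import Groth.Agent.L29.DCoh.Flat
import Mathlib.FieldTheory.IsAlgClosed.AlgebraicClosure

/-!
# The flat quotient on a geometric generic fibre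
-/

set_option autoImplicit false
set_option linter.style.haveILetI false
set_option backward.isDefEq.respectTransparency false
set_option backward.isDefEq.respectTransparency.types false

universe u

open CategoryTheory CategoryTheory.Limits AlgebraicGeometry TopologicalSpace

noncomputable section

namespace Groth.L15.TFCurve.BC

open Groth.L15.TFCurve

theorem isFinLocFreeOfRank_pull {A B : Scheme.{u}} (g : A ⟶ B) {E : B.Modules} {n : ℕ}
    (hE : FlatMod.IsFinLocFreeOfRank n E) : FlatMod.IsFinLocFreeOfRank n ((Scheme.Modules.pullback g).obj E) :=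
  fun x => by
    obtain ⟨U, hx, ⟨j⟩⟩ := hE (g x)
    exact ⟨g ⁻¹ᵁ U, hx, Groth.L29.LocFree.restrict_pullback g j⟩

/-- Tensoring with a vector bundle keeps a module flat over a discrete valuation ring. -/
theorem isFlatOver_tensor_locFree {R : Type u} [CommRing R] [IsDomain R] [IsDiscreteValuationRing R] {X : Scheme.{u}}
    (f : X ⟶ Spec (CommRingCat.of R)) {E F : X.Modules} {r : ℕ} (hE : FlatMod.IsFinLocFreeOfRank r E)
    (hF : FlatMod.IsFlatOver f F) : FlatMod.IsFlatOver f (CohB1.tensorMod E F) := by
  obtain ⟨ϖ, hϖ⟩ := IsDiscreteValuationRing.exists_irreducible R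
  refine isFlatOver_of_injective f hϖ fun y => ?_
  let t := Formal.smulModΓ F (Coh.toGlobal f ϖ)
  haveI : Mono t := (Groth.L21.Mod.mono_iff_stalk_injective t).2 fun x a b hab =>
    tGerm_smul_injective f hϖ hF x ((stalkF_map_smulModΓ F _ x a).symm.trans (hab.trans (stalkF_map_smulModΓ F _ x b)))
  haveI := Groth.L17.ChangeRings.preservesMono_tensorLeftF
    (Groth.L29.DC.isFlat_of_isFinLocFree (Groth.L22.CurveDeg.isFinLocFree_of_rank hE))
  haveI : Mono (Formal.smulModΓ ((Groth.L00.Tensor.tensorRightF E).obj F) (Coh.toGlobal f ϖ)) := by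
    rw [← Groth.L17.Strat.tensorRightF_smulModΓ E F]
    haveI : (Groth.L00.Tensor.tensorRightF E).PreservesMonomorphisms :=
      Functor.preservesMonomorphisms.of_iso (Groth.L00.Tensor.tensorFlipIso E).symm
    exact (Groth.L00.Tensor.tensorRightF E).map_mono t
  let c := Groth.L00.Tensor.tensorComm E F
  intro a b hab
  refine st_injective c.hom y (st_injective (Formal.smulModΓ ((Groth.L00.Tensor.tensorRightF E).obj F) (Coh.toGlobal f ϖ)) y ?_)
  rw [st_apply, st_apply]
  refine (stalkF_map_smulModΓ _ _ y _).trans (Eq.trans ?_ (stalkF_map_smulModΓ _ _ y _).symm)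
  exact (map_smul (st c.hom y) _ a).symm.trans ((congrArg (st c.hom y) hab).trans (map_smul (st c.hom y) _ b))

variable {R : Type u} [CommRing R] [IsDomain R] [IsDiscreteValuationRing R]

variable (R) in
/-- An algebraic closure of the fraction field of the completion. -/
abbrev Kb : Type u := AlgebraicClosure (FractionRing (Rh R))

variable (R) in
/-- The map from the base. -/
abbrev φb : R →+* Kb R := (algebraMap (Rh R) (Kb R)).comp (algebraMap R (Rh R))

variable (R) in
theorem injective_φb : Function.Injective (φb R) := by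
  intro a b h
  refine injective_completion R (IsFractionRing.injective (Rh R) (FractionRing (Rh R)) ?_)
  refine (algebraMap (FractionRing (Rh R)) (Kb R)).injective ?_
  rw [← IsScalarTower.algebraMap_apply, ← IsScalarTower.algebraMap_apply]
  exact h

variable {X : Scheme.{u}} (f : X ⟶ Spec (CommRingCat.of R))

/-- The geometric generic fibre. -/
abbrev Zb : Scheme.{u} := pullback (fh f) (Spec.map (CommRingCat.ofHom (algebraMap (Rh R) (Kb R))))

/-- The projection to the base change to the completion. -/
abbrev bh : Zb f ⟶ Xh f := pullback.fst (fh f) (Spec.map (CommRingCat.ofHom (algebraMap (Rh R) (Kb R))))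

/-- The projection to `X`. -/
abbrev bb : Zb f ⟶ X := bh f ≫ gh f

/-- The structure morphism. -/
abbrev qb : Zb f ⟶ Spec (CommRingCat.of (Kb R)) :=
  pullback.snd (fh f) (Spec.map (CommRingCat.ofHom (algebraMap (Rh R) (Kb R))))

theorem isPullback_bb : IsPullback (bb f) (qb f) f (Spec.map (CommRingCat.ofHom (φb R))) := by
  have h := (IsPullback.of_hasPullback (fh f) (Spec.map (CommRingCat.ofHom (algebraMap (Rh R) (Kb R))))).paste_horiz
    (IsPullback.of_hasPullback f (Spec.map (CommRingCat.ofHom (algebraMap R (Rh R)))))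
  rwa [← Spec.map_comp] at h

/-- A quotient of the pullback to the completion, on the geometric generic fibre. -/
def quotZ {I : X.Modules} {F : (Xh f).Modules} (p : (Scheme.Modules.pullback (gh f)).obj I ⟶ F) :
    (Scheme.Modules.pullback (bb f)).obj I ⟶ (Scheme.Modules.pullback (bh f)).obj F :=
  ((Scheme.Modules.pullbackComp (bh f) (gh f)).app I).inv ≫ (Scheme.Modules.pullback (bh f)).map p

theorem epi_quotZ {I : X.Modules} {F : (Xh f).Modules} (p : (Scheme.Modules.pullback (gh f)).obj I ⟶ F) [Epi p] :
    Epi (quotZ f p) := by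
  haveI : Epi ((Scheme.Modules.pullback (bh f)).map p) :=
    (Groth.L21.Mod.epi_iff_stalk_surjective _).2 fun x =>
      pullback_st_surjective (bh f) x p (stalk_surjective p (bh f x))
  exact epi_comp _ _

variable {f} [IsProper f] {Xs : Scheme.{u}} [Xs.Over (Spec (CommRingCat.of (IsLocalRing.ResidueField R)))] {i : Xs ⟶ X}
  (hsq : IsPullback i (Xs ↘ Spec (CommRingCat.of (IsLocalRing.ResidueField R))) f
    (Spec.map (CommRingCat.ofHom (IsLocalRing.residue R))))

include hsq in
/-- The numerical invariant is the same on the geometric generic fibre and on the special fibre. -/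
theorem beta_bh {E : X.Modules} {r : ℕ} (hE : FlatMod.IsFinLocFreeOfRank r E) {F : (Xh f).Modules} (hFc : Coh.IsCoh F)
    (hF : FlatMod.IsFlatOver (fh f) F) :
    letI : (Zb f).Over (Spec (CommRingCat.of (Kb R))) := ⟨qb f⟩
    beta (Kb R) ((Scheme.Modules.pullback (bb f)).obj E) ((Scheme.Modules.pullback (bh f)).obj F) =
      beta (IsLocalRing.ResidueField R) ((Scheme.Modules.pullback i).obj E)
        ((Scheme.Modules.pullback (ih hsq)).obj F) := by
  letI : (Zb f).Over (Spec (CommRingCat.of (Kb R))) := ⟨qb f⟩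
  letI := overH (R := R) (Xs := Xs)
  haveI : IsLocallyNoetherian (Xh f) := LocallyOfFiniteType.isLocallyNoetherian (fh f)
  haveI := isProper_special hsq
  haveI := isClosedImmersion_ih hsq
  let Eh := (Scheme.Modules.pullback (gh f)).obj E
  have hEh := isFinLocFreeOfRank_pull (gh f) hE
  let T := CohB1.tensorMod Eh F
  have hT : Coh.IsCoh T := Groth.L22.CurveDeg.isCoh_tensor_locFree hEh hFc
  haveI : Coh.IsQCoh T := hT.1
  have hTf : FlatMod.IsFlatOver (fh f) T := isFlatOver_tensor_locFree (fh f) hEh hF
  obtain ⟨m⟩ := Groth.L17.BC.nonempty_model (fh f) T hT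
    fun V hV => Groth.L07.ModSep.flat_sections_spec (fh f) T hTf hV
  obtain ⟨e, he⟩ := Groth.L03.ShStab.EulerConst.exists_euler_eq m
  have h1 := he (Kb R) (Zb f) (bh f) (IsPullback.of_hasPullback _ _)
  have h2 := he (IsLocalRing.ResidueField (Rh R)) Xs (ih hsq) (by
    have h := isPullback_ih hsq
    exact h)
  have h3 : Curv2.euler (Kb R) (Zb f) ((Scheme.Modules.pullback (bh f)).obj T) =
      beta (Kb R) ((Scheme.Modules.pullback (bb f)).obj E) ((Scheme.Modules.pullback (bh f)).obj F) :=
    Groth.L21.RR.euler_congr (Kb R) ((Groth.L29.DC.PullTensor.pullTensor (bh f) Eh F).symm ≪≫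
      Groth.L00.Tensor.tensorIso ((Scheme.Modules.pullbackComp (bh f) (gh f)).app E) (Iso.refl _))
  have h4 : Curv2.euler (IsLocalRing.ResidueField (Rh R)) Xs ((Scheme.Modules.pullback (ih hsq)).obj T) =
      beta (IsLocalRing.ResidueField R) ((Scheme.Modules.pullback i).obj E)
        ((Scheme.Modules.pullback (ih hsq)).obj F) := by
    let M := (Scheme.Modules.pullback (ih hsq)).obj T
    have hM : Coh.IsCoh M := by
      haveI : IsLocallyNoetherian Xs :=
        LocallyOfFiniteType.isLocallyNoetherian (Xs ↘ Spec (CommRingCat.of (IsLocalRing.ResidueField R)))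
      exact Groth.L16.AffineBC.isCoh_pullback (ih hsq) hT
    letI : Algebra (IsLocalRing.ResidueField R) (IsLocalRing.ResidueField (Rh R)) := (resEquiv R).toRingHom.toAlgebra
    have sq : IsPullback (𝟙 Xs) (Xs ↘ Spec (CommRingCat.of (IsLocalRing.ResidueField (Rh R))))
        (Xs ↘ Spec (CommRingCat.of (IsLocalRing.ResidueField R)))
        (Spec.map (CommRingCat.ofHom (algebraMap (IsLocalRing.ResidueField R) (IsLocalRing.ResidueField (Rh R))))) := by
      haveI : IsIso (CommRingCat.ofHom (algebraMap (IsLocalRing.ResidueField R) (IsLocalRing.ResidueField (Rh R)))) :=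
        (resEquiv R).toCommRingCatIso.isIso_hom
      refine IsPullback.of_horiz_isIso ⟨?_⟩
      show 𝟙 Xs ≫ _ = ((Xs ↘ Spec (CommRingCat.of (IsLocalRing.ResidueField R))) ≫
        Spec.map (CommRingCat.ofHom (resEquiv R).symm.toRingHom)) ≫ _
      rw [Category.id_comp, Category.assoc, ← Spec.map_comp]
      conv_lhs => rw [← Category.comp_id (Xs ↘ Spec (CommRingCat.of (IsLocalRing.ResidueField R)))]
      congr 1
      rw [← Spec.map_id]
      congr 1
      apply CommRingCat.hom_ext
      exact RingHom.ext fun z => ((resEquiv R).symm_apply_apply z).symm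
    refine ((Groth.L21.RR.euler_congr (IsLocalRing.ResidueField (Rh R)) ((Scheme.Modules.pullbackId Xs).app M)).symm.trans
      (Groth.L21.RR.euler_pullback (𝟙 Xs) sq hM)).trans ?_
    exact Groth.L21.RR.euler_congr (IsLocalRing.ResidueField R) ((Groth.L29.DC.PullTensor.pullTensor (ih hsq) Eh F).symm ≪≫
      Groth.L00.Tensor.tensorIso (isoT hsq E) (Iso.refl _))
  rw [← h3, ← h4, h1, h2]

omit hsq [IsProper f] in
theorem injective_algebraMap_Kb : Function.Injective (algebraMap (Rh R) (Kb R)) := by
  intro a b h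
  refine IsFractionRing.injective (Rh R) (FractionRing (Rh R)) ?_
  refine (algebraMap (FractionRing (Rh R)) (Kb R)).injective ?_
  rw [← IsScalarTower.algebraMap_apply, ← IsScalarTower.algebraMap_apply]
  exact h

omit hsq [IsProper f] in
variable (f) in
theorem flat_bh : Flat (bh f) := by
  refine MorphismProperty.of_isPullback (P := @Flat) (IsPullback.of_hasPullback (fh f)
    (Spec.map (CommRingCat.ofHom (algebraMap (Rh R) (Kb R))))).flip ?_
  rw [Flat.SpecMap_iff]
  show (algebraMap (Rh R) (Kb R)).Flat
  rw [RingHom.flat_algebraMap_iff]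
  haveI : Module.IsTorsionFree (Rh R) (Kb R) :=
    Module.isTorsionFree_iff_smul_eq_zero.2 fun a m h => by
      rw [Algebra.smul_def] at h
      rcases mul_eq_zero.1 h with h | h
      · exact Or.inl (injective_algebraMap_Kb (h.trans (map_zero _).symm))
      · exact Or.inr h
  infer_instance

omit hsq [IsProper f] in
/-- Flat non-zero modules are non-zero on the geometric generic fibre. -/
theorem not_isZero_bh {F : (Xh f).Modules} [Coh.IsQCoh F] (hF : FlatMod.IsFlatOver (fh f) F)
    (hne : ¬ IsZero F) : ¬ IsZero ((Scheme.Modules.pullback (bh f)).obj F) := by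
  intro hz
  refine hne ((Groth.L21.Mod.isZero_iff_stalk_subsingleton F).2 fun x => subsingleton_of_forall_eq 0 fun a => ?_)
  obtain ⟨ϖ, hϖ⟩ := IsDiscreteValuationRing.exists_irreducible (Rh R)
  haveI := flat_bh f
  let t := tGerm (fh f) ϖ x
  let A : Ideal ((Xh f).presheaf.stalk x) :=
    LinearMap.ker (LinearMap.toSpanSingleton ((Xh f).presheaf.stalk x) (F.presheaf.stalk x) a)
  have ht : t ∈ A.radical := by
    rw [Ideal.radical_eq_sInf, Ideal.mem_sInf]
    intro P hP
    by_contra htP
    let Q : PrimeSpectrum ((Xh f).presheaf.stalk x) := ⟨P, hP.2⟩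
    have hsp : (Xh f).fromSpecStalk x Q ⤳ x := by
      have h1 : (Xh f).fromSpecStalk x Q ∈ Set.range ((Xh f).fromSpecStalk x) := ⟨Q, rfl⟩
      rw [Scheme.range_fromSpecStalk] at h1
      exact h1
    obtain ⟨w, hw⟩ := (range_of_injective injective_algebraMap_Kb (IsPullback.of_hasPullback (fh f)
      (Spec.map (CommRingCat.ofHom (algebraMap (Rh R) (Kb R)))))).ge (apply_fromSpecStalk (fh f) hϖ x Q htP)
    haveI : Subsingleton (F.presheaf.stalk ((Xh f).fromSpecStalk x Q)) :=
      hw ▸ (subsingleton_pullback_iff (bh f) w F).1 ((Groth.L21.Mod.isZero_iff_stalk_subsingleton _).1 hz w)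
    obtain ⟨u, hu, hua⟩ := exists_smul_eq_zero F x a Q hsp (Subsingleton.elim _ _)
    exact hu (hP.1 (LinearMap.mem_ker.2 hua))
  obtain ⟨n, hn⟩ := ht
  refine IsSMulRegular.pow n (show IsSMulRegular (F.presheaf.stalk x) t from tGerm_smul_injective (fh f) hϖ hF x) ?_
  exact (LinearMap.mem_ker.1 hn).trans (smul_zero (t ^ n)).symm

end Groth.L15.TFCurve.BC
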