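import Groth.Agent.L15.TFCurve.Limit
import Groth.Agent.L17.FlatBase.CxTools
import Mathlib.RingTheory.Flat.FaithfullyFlat.Algebra

/-!
# Stalks of flat pullbacks of modules
-/

set_option autoImplicit false
set_option linter.style.haveILetI false
set_option backward.isDefEq.respectTransparency false
set_option backward.isDefEq.respectTransparency.types false

universe u

open CategoryTheory CategoryTheory.Limits AlgebraicGeometry TopologicalSpace TensorProduct

noncomputable section

namespace Groth.L15.TFCurve.BC

open Groth.L15.TFCurve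

variable {X Y : Scheme.{u}} (g : X ⟶ Y) (x : X)

/-- The local rings as an algebra. -/
@[implicit_reducible] def alg : Algebra (Y.presheaf.stalk (g x)) (X.presheaf.stalk x) :=
  (g.stalkMap x).hom.toAlgebra

/-- The stalk of the pullback. -/
def pe (N : Y.Modules) :
    letI := alg g x
    ((Scheme.Modules.pullback g).obj N).presheaf.stalk x ≃ₗ[X.presheaf.stalk x]
      X.presheaf.stalk x ⊗[Y.presheaf.stalk (g x)] N.presheaf.stalk (g x) :=
  letI := alg g x
  ((Groth.L00.PullStalk.stalkIso g x).app N).toLinearEquiv

theorem pe_map {A B : Y.Modules} (φ : A ⟶ B) (z : ((Scheme.Modules.pullback g).obj A).presheaf.stalk x) :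
    letI := alg g x
    pe g x B (st ((Scheme.Modules.pullback g).map φ) x z) = (st φ (g x)).baseChange (X.presheaf.stalk x) (pe g x A z) := by
  letI := alg g x
  exact congrArg (fun t => (ConcreteCategory.hom t) z) ((Groth.L00.PullStalk.stalkIso g x).hom.naturality φ)

theorem flat_alg [Flat g] : letI := alg g x; Module.Flat (Y.presheaf.stalk (g x)) (X.presheaf.stalk x) :=
  Flat.stalkMap g x

theorem faithfullyFlat_alg [Flat g] :
    letI := alg g x; Module.FaithfullyFlat (Y.presheaf.stalk (g x)) (X.presheaf.stalk x) := by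
  letI := alg g x
  haveI := flat_alg g x
  haveI : IsLocalHom (algebraMap (Y.presheaf.stalk (g x)) (X.presheaf.stalk x)) :=
    inferInstanceAs (IsLocalHom (g.stalkMap x).hom)
  exact Module.FaithfullyFlat.of_flat_of_isLocalHom

theorem pullback_st_injective [Flat g] {A B : Y.Modules} (φ : A ⟶ B) (h : Function.Injective (st φ (g x))) :
    Function.Injective (st ((Scheme.Modules.pullback g).map φ) x) := by
  letI := alg g x
  haveI := flat_alg g x
  intro a b hab
  apply (pe g x A).injective
  apply Module.Flat.lTensor_preserves_injective_linearMap (M := X.presheaf.stalk x) (st φ (g x)) h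
  exact (pe_map g x φ a).symm.trans ((congrArg (pe g x B) hab).trans (pe_map g x φ b))

theorem pullback_st_surjective {A B : Y.Modules} (φ : A ⟶ B) (h : Function.Surjective (st φ (g x))) :
    Function.Surjective (st ((Scheme.Modules.pullback g).map φ) x) := by
  letI := alg g x
  intro b
  obtain ⟨a, ha⟩ := LinearMap.lTensor_surjective (X.presheaf.stalk x) h (pe g x B b)
  exact ⟨(pe g x A).symm a, (pe g x B).injective (by rw [pe_map, LinearEquiv.apply_symm_apply]; exact ha)⟩

/-- The stalk of the pullback vanishes exactly where the stalk does. -/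
theorem subsingleton_pullback_iff [Flat g] (N : Y.Modules) :
    Subsingleton (((Scheme.Modules.pullback g).obj N).presheaf.stalk x) ↔
      Subsingleton (N.presheaf.stalk (g x)) := by
  letI := alg g x
  haveI := faithfullyFlat_alg g x
  rw [(pe g x N).toEquiv.subsingleton_congr]
  exact Module.FaithfullyFlat.subsingleton_tensorProduct_iff_right _ _

/-- A stalk isomorphic to the local ring stays so. -/
theorem nonempty_pullback_stalk_equiv (N : Y.Modules)
    (e : N.presheaf.stalk (g x) ≃ₗ[Y.presheaf.stalk (g x)] Y.presheaf.stalk (g x)) :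
    Nonempty (((Scheme.Modules.pullback g).obj N).presheaf.stalk x ≃ₗ[X.presheaf.stalk x] X.presheaf.stalk x) := by
  letI := alg g x
  exact ⟨pe g x N ≪≫ₗ (e.baseChange _ (X.presheaf.stalk x)) ≪≫ₗ AlgebraTensorModule.rid _ _ _⟩

/-- The unit on a stalk. -/
def pu (N : Y.Modules) (n : N.presheaf.stalk (g x)) : ((Scheme.Modules.pullback g).obj N).presheaf.stalk x :=
  letI := alg g x
  (pe g x N).symm ((1 : X.presheaf.stalk x) ⊗ₜ n)

theorem pu_map {A B : Y.Modules} (φ : A ⟶ B) (n : A.presheaf.stalk (g x)) :
    st ((Scheme.Modules.pullback g).map φ) x (pu g x A n) = pu g x B (st φ (g x) n) := by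
  letI := alg g x
  apply (pe g x B).injective
  rw [pe_map, pu, pu, LinearEquiv.apply_symm_apply, LinearEquiv.apply_symm_apply]
  rfl

theorem pu_injective [Flat g] (N : Y.Modules) : Function.Injective (pu g x N) := by
  letI := alg g x
  haveI := faithfullyFlat_alg g x
  intro a b hab
  exact Module.FaithfullyFlat.tensorProduct_mk_injective (A := Y.presheaf.stalk (g x)) (B := X.presheaf.stalk x)
    (N.presheaf.stalk (g x)) ((pe g x N).symm.injective hab)

theorem pu_smul (N : Y.Modules) (r : Y.presheaf.stalk (g x)) (n : N.presheaf.stalk (g x)) :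
    pu g x N (r • n) = (g.stalkMap x).hom r • pu g x N n := by
  letI := alg g x
  rw [pu, pu, ← map_smul]
  congr 1
  rw [TensorProduct.tmul_smul, TensorProduct.smul_tmul', TensorProduct.smul_tmul']
  rfl

/-- Exactness at a stalk passes to flat pullbacks. -/
theorem pullback_st_exact [Flat g] {A B C : Y.Modules} (φ : A ⟶ B) (ψ : B ⟶ C)
    (h : Function.Exact (st φ (g x)) (st ψ (g x))) :
    Function.Exact (st ((Scheme.Modules.pullback g).map φ) x) (st ((Scheme.Modules.pullback g).map ψ) x) := by
  letI := alg g x
  haveI := flat_alg g x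
  have h2 : Function.Exact ((st φ (g x)).lTensor (X.presheaf.stalk x)) ((st ψ (g x)).lTensor (X.presheaf.stalk x)) :=
    Module.Flat.lTensor_exact _ h
  intro b
  constructor
  · intro hb
    obtain ⟨a, ha⟩ := (h2 (pe g x B b)).1 ((pe_map g x ψ b).symm.trans ((congrArg (pe g x C) hb).trans (map_zero _)))
    exact ⟨(pe g x A).symm a, (pe g x B).injective (by rw [pe_map, LinearEquiv.apply_symm_apply]; exact ha)⟩
  · rintro ⟨a, rfl⟩
    apply (pe g x C).injective
    rw [pe_map, pe_map, map_zero]
    exact (h2 _).2 ⟨_, rfl⟩

end Groth.L15.TFCurve.BC
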