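import Groth.Agent.L15.TFCurve.BC.GeomQuot
import Groth.Agent.L15.TFCurve.BC.GenFibre
import Groth.Agent.L15.TFCurve.BC.Transfer
import Groth.Agent.L15.TFCurve.Red.QFun

/-!
# The geometric generic fibre over the completion as a curve
-/

set_option autoImplicit false
set_option linter.style.haveILetI false
set_option backward.isDefEq.respectTransparency false
set_option backward.isDefEq.respectTransparency.types false

universe u

open CategoryTheory CategoryTheory.Limits AlgebraicGeometry TopologicalSpace

noncomputable section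

namespace Groth.L15.TFCurve.BC

open Groth.L15.TFCurve

variable {R : Type u} [CommRing R] [IsDomain R] [IsDiscreteValuationRing R] {X : Scheme.{u}}
  (f : X ⟶ Spec (CommRingCat.of R))

/-- Pullback to the completion preserves flatness. -/
theorem isFlatOver_gh {N : X.Modules} (hN : FlatMod.IsFlatOver f N) :
    FlatMod.IsFlatOver (fh f) ((Scheme.Modules.pullback (gh f)).obj N) := by
  haveI := flat_gh f
  obtain ⟨ϖ, hϖ⟩ := IsDiscreteValuationRing.exists_irreducible R
  have hϖh : Irreducible (algebraMap R (Rh R) ϖ) := by
    rw [IsDiscreteValuationRing.irreducible_iff_uniformizer, AdicCompletion.maximalIdeal_eq_map]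
    exact (congrArg (Ideal.map (algebraMap R (Rh R))) hϖ.maximalIdeal_eq).trans
      (by rw [Ideal.map_span, Set.image_singleton])
  refine isFlatOver_of_injective (fh f) hϖh fun y a a' h => ?_
  let t := Formal.smulModΓ N (Coh.toGlobal f ϖ)
  have hinj : Function.Injective (st t (gh f y)) := fun u v huv =>
    tGerm_smul_injective f hϖ hN (gh f y) ((stalkF_map_smulModΓ _ _ _ u).symm.trans
      (huv.trans (stalkF_map_smulModΓ _ _ _ v)))
  have ht : ∀ z : ((Scheme.Modules.pullback (gh f)).obj N).presheaf.stalk y,
      st ((Scheme.Modules.pullback (gh f)).map t) y z = tGerm (fh f) (algebraMap R (Rh R) ϖ) y • z := fun z => by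
    rw [← tGerm_gh]
    letI := alg (gh f) y
    apply (pe (gh f) y N).injective
    rw [pe_map, map_smul]
    generalize pe (gh f) y N z = w
    induction w using TensorProduct.induction_on with
    | zero => simp
    | tmul c n =>
      rw [LinearMap.baseChange_tmul, show st t (gh f y) n = tGerm f ϖ (gh f y) • n from stalkF_map_smulModΓ _ _ _ n,
        TensorProduct.tmul_smul, ← algebraMap_smul (Xh f |>.presheaf.stalk y)]
      rfl
    | add u v hu hv => rw [map_add, smul_add, hu, hv]
  exact pullback_st_injective (gh f) y t hinj ((ht a).trans (h.trans (ht a').symm))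

/-- The geometric generic fibre over the algebraically closed field. -/
@[implicit_reducible] def overB : (Zb f).Over (Spec (CommRingCat.of (Kb R))) := ⟨qb f⟩

theorem isProper_zb [IsProper f] : IsProper (qb f) :=
  MorphismProperty.of_isPullback (IsPullback.of_hasPullback (fh f)
    (Spec.map (CommRingCat.ofHom (algebraMap (Rh R) (Kb R))))) (inferInstance : IsProper (fh f))

variable {f} [IsProper f] [Flat f] {Xs : Scheme.{u}} [Xs.Over (Spec (CommRingCat.of (IsLocalRing.ResidueField R)))] {i : Xs ⟶ X}
  (hsq : IsPullback i (Xs ↘ Spec (CommRingCat.of (IsLocalRing.ResidueField R))) f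
    (Spec.map (CommRingCat.ofHom (IsLocalRing.residue R)))) [IsReduced Xs]
  (hpure : ∀ C ∈ irreducibleComponents (Xs : Type u), topologicalKrullDim C = 1)
  (hgi : GICmp (IsLocalRing.ResidueField R) (Xs ↘ Spec (CommRingCat.of (IsLocalRing.ResidueField R))))

omit [IsProper f] in
theorem flat_fh : Flat (fh f) :=
  MorphismProperty.of_isPullback (IsPullback.of_hasPullback f
    (Spec.map (CommRingCat.ofHom (algebraMap R (Rh R))))) ‹Flat f›

include hsq hgi in
theorem isReduced_zb : IsReduced (Zb f) := by
  haveI := isProper_special hsq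
  haveI := Groth.L21.RR.isNoetherian_of_proper (X := Xs) (IsLocalRing.ResidueField R)
  haveI : Flat (fh f) := flat_fh (f := f)
  letI := overH (R := R) (Xs := Xs)
  have hg := geometricallyReduced (q := Xs ↘ Spec (CommRingCat.of (IsLocalRing.ResidueField R))) hgi
  haveI : GeometricallyReduced (Xs ↘ Spec (CommRingCat.of (IsLocalRing.ResidueField (Rh R)))) := by
    refine ⟨fun K _ y Z fst snd h => ?_⟩
    let ι := Spec.map (CommRingCat.ofHom (resEquiv R).symm.toRingHom)
    haveI : IsIso ι := by
      haveI : IsIso (CommRingCat.ofHom (resEquiv R).symm.toRingHom) := (resEquiv R).symm.toCommRingCatIso.isIso_hom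
      infer_instance
    refine hg.geometrically_isReduced (K := K) (y ≫ inv ι) fst snd ?_
    refine h.of_iso (Iso.refl _) (Iso.refl _) (Iso.refl _) (asIso ι).symm (by simp) (by simp) ?_ (by simp)
    show ((Xs ↘ Spec (CommRingCat.of (IsLocalRing.ResidueField R))) ≫ ι) ≫ inv ι = 𝟙 _ ≫ _
    rw [Category.assoc, IsIso.hom_inv_id, Category.comp_id, Category.id_comp]
  exact isReduced_generic (isPullback_ih hsq) (injective_algebraMap_Kb (R := R))
    (IsPullback.of_hasPullback (fh f) (Spec.map (CommRingCat.ofHom (algebraMap (Rh R) (Kb R)))))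

include hsq hpure in
theorem hpure_zb : ∀ C ∈ irreducibleComponents (Zb f : Type u), topologicalKrullDim C = 1 := by
  haveI : Flat (fh f) := flat_fh (f := f)
  letI := overH (R := R) (Xs := Xs)
  have sq := IsPullback.of_hasPullback (fh f) (Spec.map (CommRingCat.ofHom (algebraMap (Rh R) (Kb R))))
  have e : algebraMap (Rh R) (Kb R) =
      (algebraMap (FractionRing (Rh R)) (Kb R)).comp (algebraMap (Rh R) (FractionRing (Rh R))) :=
    IsScalarTower.algebraMap_eq _ _ _
  refine hpure_generic (isPullback_ih hsq) hpure (Ω := Kb R) (g := bh f) (q := qb f) ?_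
  rw [← e]
  exact sq

end Groth.L15.TFCurve.BC
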